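import Groth.Agent.InvGlue.Glue
import Groth.Agent.InvPow.Basic

/-!
The module glued from a unit cocycle.
-/

universe u

open CategoryTheory CategoryTheory.Limits AlgebraicGeometry Opposite TopologicalSpace

set_option backward.isDefEq.respectTransparency false

namespace Groth.Agent.CocycleMod

open Groth.Agent.InvGlue (fres fres_fres fres_self)

variable {X : Scheme.{u}} {ι : Type u} (U : ι → X.Opens) (η : ∀ i j : ι, Γ(X, U i ⊓ U j))

/-- Compatible families of coefficients over `W`. -/
noncomputable def fams (W : X.Opens) : AddSubgroup (∀ i, Γ(X, W ⊓ U i)) where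
  carrier := {a | ∀ i j, fres (inf_le_inf_left W inf_le_left : W ⊓ (U i ⊓ U j) ≤ W ⊓ U i) (a i) *
      fres (inf_le_right : W ⊓ (U i ⊓ U j) ≤ U i ⊓ U j) (η i j) =
    fres (inf_le_inf_left W inf_le_right : W ⊓ (U i ⊓ U j) ≤ W ⊓ U j) (a j)}
  zero_mem' i j := by simp
  add_mem' {a b} ha hb i j := by
    rw [Pi.add_apply, Pi.add_apply, map_add, map_add, add_mul, ha i j, hb i j]
  neg_mem' {a} ha i j := by
    rw [Pi.neg_apply, Pi.neg_apply, map_neg, map_neg, neg_mul, ha i j]

noncomputable instance (W : X.Opens) : SMul Γ(X, W) (fams U η W) where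
  smul r s := ⟨fun i => fres inf_le_left r * s.1 i, fun i j => by
    dsimp only
    rw [map_mul, map_mul, mul_assoc, s.2 i j, fres_fres, fres_fres]⟩

theorem smul_apply {W : X.Opens} (r : Γ(X, W)) (s : fams U η W) (i : ι) :
    (r • s).1 i = fres inf_le_left r * s.1 i := rfl

theorem fams_ext {W : X.Opens} {s t : fams U η W} (h : ∀ i, s.1 i = t.1 i) : s = t :=
  Subtype.ext (funext h)

noncomputable instance (W : X.Opens) : Module Γ(X, W) (fams U η W) where
  one_smul s := fams_ext U η fun i => by simp [smul_apply]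
  mul_smul a b s := fams_ext U η fun i => by simp [smul_apply, mul_assoc]
  smul_zero a := fams_ext U η fun i => by simp [smul_apply]
  smul_add a s t := fams_ext U η fun i => by simp [smul_apply, mul_add]
  add_smul a b s := fams_ext U η fun i => by simp [smul_apply, add_mul]
  zero_smul s := fams_ext U η fun i => by simp [smul_apply]

/-- Restriction of families. -/
noncomputable def famsRes {W W' : X.Opens} (h : W' ≤ W) : fams U η W →+ fams U η W' where
  toFun s := ⟨fun i => fres (inf_le_inf_right _ h) (s.1 i), fun i j => by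
    have := congrArg (fres (inf_le_inf_right (U i ⊓ U j) h)) (s.2 i j)
    rw [map_mul, fres_fres, fres_fres, fres_fres] at this
    rw [fres_fres, fres_fres]
    exact this⟩
  map_zero' := fams_ext U η fun _ => map_zero (fres _)
  map_add' _ _ := fams_ext U η fun _ => map_add (fres _) _ _

/-- The presheaf of families. -/
noncomputable def presheaf : TopCat.Presheaf AddCommGrpCat.{u} X.carrier where
  obj W := AddCommGrpCat.of (fams U η W.unop)
  map j := AddCommGrpCat.ofHom (famsRes U η j.unop.le)
  map_id W := by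
    refine AddCommGrpCat.hom_ext (AddMonoidHom.ext fun s => ?_)
    change famsRes U η le_rfl (show fams U η W.unop from s) = s
    exact fams_ext U η fun i => fres_self _ _
  map_comp {A B C} j k := by
    refine AddCommGrpCat.hom_ext (AddMonoidHom.ext fun s => ?_)
    change famsRes U η (k.unop.le.trans j.unop.le) (show fams U η A.unop from s) =
      famsRes U η k.unop.le (famsRes U η j.unop.le (show fams U η A.unop from s))
    exact fams_ext U η fun i => (fres_fres _ _ _).symm

noncomputable instance (W : (Opens X)ᵒᵖ) : Module (X.ringCatSheaf.obj.obj W) ((presheaf U η).obj W) :=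
  inferInstanceAs (Module Γ(X, W.unop) (fams U η W.unop))

/-- The presheaf of modules of families. -/
noncomputable def presheafMod : PresheafOfModules X.ringCatSheaf.obj :=
  PresheafOfModules.ofPresheaf (presheaf U η) fun W W' j r s => fams_ext U η fun i => by
    change fres _ (fres inf_le_left r * (show fams U η W.unop from s).1 i) =
      fres inf_le_left (fres j.unop.le r) * fres _ ((show fams U η W.unop from s).1 i)
    rw [map_mul, fres_fres, fres_fres]

theorem isSheaf_presheaf : TopCat.Presheaf.IsSheaf (presheaf U η) := by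
  rw [TopCat.Presheaf.isSheaf_iff_isSheafUniqueGluing]
  intro κ W sf hsf
  have hc : ∀ i, ∃! c : Γ(X, iSup W ⊓ U i), ∀ a, fres (inf_le_inf_right _ (le_iSup W a)) c =
      (show fams U η (W a) from sf a).1 i := by
    intro i
    obtain ⟨c, hc, hcu⟩ := TopCat.Sheaf.existsUnique_gluing' X.sheaf (fun a => W a ⊓ U i) (iSup W ⊓ U i)
      (fun a => homOfLE (inf_le_inf_right _ (le_iSup W a))) (fun y hy => by
        obtain ⟨a, ha⟩ := Opens.mem_iSup.mp hy.1
        exact Opens.mem_iSup.mpr ⟨a, ha, hy.2⟩)
      (fun a => (show fams U η (W a) from sf a).1 i) (fun a b => by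
        have h := congrArg (fun s : fams U η (W a ⊓ W b) => s.1 i) (hsf a b)
        change fres _ _ = fres _ _ at h
        have h' := congrArg (fres (le_inf (inf_le_inf inf_le_left inf_le_left)
          (inf_le_left.trans inf_le_right) : (W a ⊓ U i) ⊓ (W b ⊓ U i) ≤ (W a ⊓ W b) ⊓ U i)) h
        rw [fres_fres, fres_fres] at h'
        exact h')
    exact ⟨c, hc, hcu⟩
  choose c hc hcu using hc
  refine ⟨⟨c, fun i j => ?_⟩, fun a => fams_ext U η fun i => hc i a, fun t ht => ?_⟩
  · refine TopCat.Sheaf.eq_of_locally_eq' X.sheaf (fun a => W a ⊓ (U i ⊓ U j)) _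
      (fun a => homOfLE (inf_le_inf_right _ (le_iSup W a))) (fun y hy => ?_) _ _ fun a => ?_
    · obtain ⟨a, ha⟩ := Opens.mem_iSup.mp hy.1
      exact Opens.mem_iSup.mpr ⟨a, ha, hy.2⟩
    · change fres _ (_ * _) = fres _ _
      rw [map_mul, fres_fres, fres_fres, fres_fres,
        ← fres_fres (inf_le_inf_right (U i) (le_iSup W a))
          (inf_le_inf_left _ inf_le_left : W a ⊓ (U i ⊓ U j) ≤ W a ⊓ U i), hc i a,
        ← fres_fres (inf_le_inf_right (U j) (le_iSup W a))
          (inf_le_inf_left _ inf_le_right : W a ⊓ (U i ⊓ U j) ≤ W a ⊓ U j), hc j a]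
      exact (show fams U η (W a) from sf a).2 i j
  · exact fams_ext U η fun i => hcu i _ fun a => congrArg (fun s : fams U η (W a) => s.1 i) (ht a)

/-- The glued module. -/
noncomputable def glued : X.Modules := ⟨presheafMod U η, isSheaf_presheaf U η⟩

/-- For a unit cocycle the tautological family over `U i` is a basis. -/
theorem exists_basis (hu : ∀ i, IsUnit (η i i))
    (hη : ∀ i j k : ι, fres (inf_le_inf_right (U k) inf_le_left : U i ⊓ U j ⊓ U k ≤ U i ⊓ U k) (η i k) =
      fres (inf_le_left : U i ⊓ U j ⊓ U k ≤ U i ⊓ U j) (η i j) *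
        fres (inf_le_inf_right (U k) inf_le_right : U i ⊓ U j ⊓ U k ≤ U j ⊓ U k) (η j k)) :
    ∃ s : ∀ i, Γ(glued U η, U i), (∀ i, InvBasic.IsBasis (glued U η) (s i)) ∧
      ∀ i j : ι, (glued U η).presheaf.map (homOfLE (inf_le_left : U i ⊓ U j ≤ U i)).op (s i) =
        η i j • (glued U η).presheaf.map (homOfLE (inf_le_right : U i ⊓ U j ≤ U j)).op (s j) := by
  have h1 : ∀ i, η i i = 1 := by
    intro i
    have hle : U i ⊓ U i ≤ U i ⊓ U i ⊓ U i := le_inf le_rfl inf_le_left
    have h := congrArg (fres hle) (hη i i i)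
    simp only [map_mul, fres_fres, fres_self] at h
    exact (hu i).mul_left_cancel (h.symm.trans (mul_one _).symm)
  let m : ∀ i, fams U η (U i) := fun i => ⟨fun j => η i j, fun j k => by
    have h := congrArg (fres (le_inf (le_inf inf_le_left (inf_le_right.trans inf_le_left))
      (inf_le_right.trans inf_le_right) : U i ⊓ (U j ⊓ U k) ≤ U i ⊓ U j ⊓ U k)) (hη i j k)
    rw [map_mul, fres_fres, fres_fres, fres_fres] at h
    exact h.symm⟩
  refine ⟨fun i => (show Γ(glued U η, U i) from m i), fun i W hW => ?_, fun i j => ?_⟩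
  · change Function.Bijective fun r : Γ(X, W) => r • famsRes U η hW (m i)
    have hWi : W ≤ W ⊓ U i := le_inf le_rfl hW
    have hsnd : ∀ r : Γ(X, W), (r • famsRes U η hW (m i)).1 i = fres inf_le_left r := by
      intro r
      rw [smul_apply]
      change _ * fres _ (η i i) = _
      rw [h1, map_one, mul_one]
    refine ⟨fun r r' h => ?_, fun s => ⟨fres hWi (s.1 i), fams_ext U η fun j => ?_⟩⟩
    · have h' := congrArg (fun s : fams U η W => fres hWi (s.1 i)) h
      simp only [hsnd, fres_fres, fres_self] at h'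
      exact h'
    · have hle : W ⊓ U j ≤ W ⊓ (U i ⊓ U j) := le_inf inf_le_left (le_inf (inf_le_left.trans hW) inf_le_right)
      have h := congrArg (fres hle) (s.2 i j)
      rw [map_mul, fres_fres, fres_fres, fres_fres, fres_self] at h
      rw [smul_apply, fres_fres]
      change _ * fres _ (η i j) = _
      exact h
  · change famsRes U η inf_le_left (m i) = η i j • famsRes U η inf_le_right (m j)
    refine fams_ext U η fun k => ?_
    rw [smul_apply]
    exact hη i j k

section compare

variable (L : X.Modules) (l : ∀ i, Γ(L, U i)) (hl : ∀ i, InvBasic.IsBasis L (l i))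
  (htr : ∀ i j, InvGlue.pres L (inf_le_left : U i ⊓ U j ≤ U i) (l i) =
    η i j • InvGlue.pres L (inf_le_right : U i ⊓ U j ≤ U j) (l j))

open Groth.Agent.InvGlue (pres pres_pres pres_smul)

include hl htr in
/-- A module with bases having transition functions `η` is the glued module. -/
theorem nonempty_iso_glued (hcov : ∀ x : X, ∃ i, x ∈ U i) : Nonempty (L ≅ glued U η) := by
  have hco : ∀ (W : X.Opens) (q : Γ(L, W)), ∃ a : fams U η W, ∀ i,
      pres L (inf_le_left : W ⊓ U i ≤ W) q = a.1 i • pres L (inf_le_right : W ⊓ U i ≤ U i) (l i) := by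
    intro W q
    choose a ha using fun i => InvPow.exists_coef ((hl i).restrict (inf_le_right : W ⊓ U i ≤ U i))
      (pres L (inf_le_left : W ⊓ U i ≤ W) q)
    refine ⟨⟨a, fun i j => ?_⟩, ha⟩
    have hi := congrArg (pres L (inf_le_inf_left W inf_le_left : W ⊓ (U i ⊓ U j) ≤ W ⊓ U i)) (ha i)
    have hj := congrArg (pres L (inf_le_inf_left W inf_le_right : W ⊓ (U i ⊓ U j) ≤ W ⊓ U j)) (ha j)
    change pres L _ (pres L _ q) = pres L _ (a i • pres L _ (l i)) at hi
    change pres L _ (pres L _ q) = pres L _ (a j • pres L _ (l j)) at hj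
    rw [pres_pres, pres_smul, pres_pres] at hi hj
    have ht := congrArg (pres L (inf_le_right : W ⊓ (U i ⊓ U j) ≤ U i ⊓ U j)) (htr i j)
    rw [pres_pres, pres_smul, pres_pres] at ht
    refine InvPow.coef_unique ((hl j).restrict (inf_le_right.trans inf_le_right : W ⊓ (U i ⊓ U j) ≤ U j)) ?_
    rw [mul_smul]
    exact ((congrArg _ ht).symm.trans hi.symm).trans hj
  choose co hcoef using hco
  have huniq : ∀ (W : X.Opens) (q : Γ(L, W)) (a : fams U η W),
      (∀ i, pres L (inf_le_left : W ⊓ U i ≤ W) q = a.1 i • pres L (inf_le_right : W ⊓ U i ≤ U i) (l i)) →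
      co W q = a := fun W q a ha => fams_ext U η fun i =>
    InvPow.coef_unique ((hl i).restrict (inf_le_right : W ⊓ U i ≤ U i)) ((hcoef W q i).symm.trans (ha i))
  let φ : L ⟶ glued U η := ⟨PresheafOfModules.homMk (M₁ := L.val) (M₂ := presheafMod U η)
    { app := fun W => AddCommGrpCat.ofHom
        (AddMonoidHom.mk' (fun q => co W.unop q) fun q q' => huniq _ _ _ fun i => by
          change pres L _ (q + q') = ((co W.unop q).1 i + (co W.unop q').1 i) • _
          rw [map_add, add_smul, hcoef, hcoef])
      naturality := fun {W W'} j => by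
        ext q
        refine huniq _ _ _ fun i => ?_
        change pres L _ (pres L j.unop.le q) = fres (inf_le_inf_right (U i) j.unop.le) ((co W.unop q).1 i) • _
        rw [pres_pres, ← pres_pres L (inf_le_left : W.unop ⊓ U i ≤ W.unop) (inf_le_inf_right (U i) j.unop.le),
          hcoef, pres_smul, pres_pres] }
    fun W r q => huniq _ _ _ fun i => by
      change pres L _ ((show Γ(X, W.unop) from r) • q) = (fres inf_le_left (show Γ(X, W.unop) from r) * (co W.unop q).1 i) • _
      rw [pres_smul, hcoef, mul_smul]⟩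
  have happ : ∀ (W : X.Opens) (q : Γ(L, W)), (show fams U η W from φ.app W q) = co W q := fun _ _ => rfl
  have hbij : ∀ (W : X.Opens) i, W ≤ U i → Function.Bijective (φ.app W) := by
    intro W i hW
    have hWi : W ≤ W ⊓ U i := le_inf le_rfl hW
    refine ⟨fun q q' h => ?_, fun s => ?_⟩
    · have h' : (co W q).1 i = (co W q').1 i :=
        congrArg (fun s : fams U η W => s.1 i) ((happ W q).symm.trans (h.trans (happ W q')))
      have h2 := congrArg (pres L hWi) ((hcoef W q i).trans ((congrArg (· • _) h').trans (hcoef W q' i).symm))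
      rw [pres_pres, pres_pres, InvGlue.pres_self, InvGlue.pres_self] at h2
      exact h2
    · refine ⟨fres hWi ((show fams U η W from s).1 i) • pres L hW (l i), huniq _ _ _ fun j => ?_⟩
      have hle : W ⊓ U j ≤ W ⊓ (U i ⊓ U j) := le_inf inf_le_left (le_inf (inf_le_left.trans hW) inf_le_right)
      have hle2 : W ⊓ U j ≤ U i ⊓ U j := inf_le_inf_right _ hW
      have ht := congrArg (pres L hle2) (htr i j)
      rw [pres_pres, pres_smul, pres_pres] at ht
      have hs := congrArg (fres hle) ((show fams U η W from s).2 i j)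
      rw [map_mul, fres_fres, fres_fres, fres_fres, fres_self] at hs
      rw [pres_smul, fres_fres, pres_pres, ht, smul_smul, ← hs]
  haveI : IsIso φ := by
    rw [isIso_iff_mono_and_epi, QCohLib.mono_iff_app_injective]
    refine ⟨fun W => fun q q' h => ?_, QCohLib.epi_of_app_surjective _ (B := {W | ∃ i, W ≤ U i}) ?_
      fun W ⟨i, hi⟩ => (hbij W i hi).2⟩
    · refine TopCat.Sheaf.eq_of_locally_eq' ⟨L.presheaf, L.isSheaf⟩ (fun i => W ⊓ U i) W
        (fun i => homOfLE inf_le_left) (fun y hy => ?_) _ _ fun i => (hbij _ i inf_le_right).1 ?_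
      · obtain ⟨i, hi⟩ := hcov y
        exact Opens.mem_iSup.mpr ⟨i, hy, hi⟩
      · exact (QCohLib.app_map φ inf_le_left q).trans
          ((congrArg _ h).trans (QCohLib.app_map φ inf_le_left q').symm)
    · refine Opens.isBasis_iff_nbhd.mpr fun {W z} hz => ?_
      obtain ⟨i, hi⟩ := hcov z
      exact ⟨W ⊓ U i, ⟨i, inf_le_right⟩, ⟨hz, hi⟩, inf_le_left⟩
  exact ⟨asIso φ⟩

end compare

end Groth.Agent.CocycleMod
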